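import Mathlib.CategoryTheory.Monoidal.Skeleton
import Mathlib.CategoryTheory.Monoidal.CoherenceLemmas
import Mathlib.CategoryTheory.Monoidal.NaturalTransformation
import Mathlib.CategoryTheory.Groupoid
import Mathlib.Tactic.CategoryTheory.Monoidal.Basic

/-!
# The action of endomorphisms of the unit on every object of a monoidal category
-/

set_option autoImplicit false

open CategoryTheory MonoidalCategory

namespace GrothLib.PicAct

universe v u v' u'

variable {C : Type u} [Category.{v} C] [MonoidalCategory C]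

/-- `φ` acting on `X` -/
def act (φ : 𝟙_ C ⟶ 𝟙_ C) (X : C) : X ⟶ X := (λ_ X).inv ≫ φ ▷ X ≫ (λ_ X).hom

theorem act_id (X : C) : act (𝟙 (𝟙_ C)) X = 𝟙 X := by simp [act]

theorem act_comp (φ ψ : 𝟙_ C ⟶ 𝟙_ C) (X : C) : act (φ ≫ ψ) X = act φ X ≫ act ψ X := by simp [act]

theorem act_naturality (φ : 𝟙_ C ⟶ 𝟙_ C) {X Y : C} (f : X ⟶ Y) :
    f ≫ act φ Y = act φ X ≫ f := by
  simp only [act, Category.assoc]
  rw [← leftUnitor_naturality f, ← whisker_exchange_assoc, leftUnitor_inv_naturality_assoc]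

theorem act_unit (φ : 𝟙_ C ⟶ 𝟙_ C) : act φ (𝟙_ C) = φ := by
  rw [act, unitors_equal, rightUnitor_naturality, ← unitors_equal, Iso.inv_hom_id_assoc]

theorem act_whiskerRight (φ : 𝟙_ C ⟶ 𝟙_ C) (X Y : C) : act φ X ▷ Y = act φ (X ⊗ Y) := by
  simp only [act]; monoidal

theorem act_whiskerLeft [BraidedCategory C] (φ : 𝟙_ C ⟶ 𝟙_ C) (X Y : C) :
    X ◁ act φ Y = act φ (X ⊗ Y) := by
  rw [← cancel_mono (β_ X Y).hom, BraidedCategory.braiding_naturality_right, act_whiskerRight,
    act_naturality]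

theorem act_tensorHom [BraidedCategory C] (φ ψ : 𝟙_ C ⟶ 𝟙_ C) (X Y : C) :
    act φ X ⊗ₘ act ψ Y = act (φ ≫ ψ) (X ⊗ Y) := by
  rw [tensorHom_def, act_whiskerRight, act_whiskerLeft, act_comp]

theorem act_bijective [IsGroupoid C] (X : C) [(tensorRight X).IsEquivalence] :
    Function.Bijective (fun φ : 𝟙_ C ⟶ 𝟙_ C => act φ X) := by
  constructor
  · intro φ ψ h
    simp only [act, cancel_epi, cancel_mono] at h
    exact (tensorRight X).map_injective h
  · intro f
    refine ⟨(tensorRight X).preimage ((λ_ X).hom ≫ f ≫ (λ_ X).inv), ?_⟩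
    have h : (tensorRight X).preimage ((λ_ X).hom ≫ f ≫ (λ_ X).inv) ▷ X =
        (λ_ X).hom ≫ f ≫ (λ_ X).inv := (tensorRight X).map_preimage _
    simp only [act]
    rw [h]
    simp

section Functor

variable {D : Type u'} [Category.{v'} D] [MonoidalCategory D] [IsGroupoid D]
  (F : C ⥤ D) [F.LaxMonoidal]

open Functor.LaxMonoidal

theorem map_act (φ : 𝟙_ C ⟶ 𝟙_ C) (X : C) :
    F.map (act φ X) = act (ε F ≫ F.map φ ≫ inv (ε F)) (F.obj X) := by
  have h1 : F.map (λ_ X).inv = (λ_ (F.obj X)).inv ≫ ε F ▷ F.obj X ≫ μ F (𝟙_ C) X :=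
    (left_unitality_inv F X).symm
  simp only [act, Functor.map_comp, h1, Category.assoc, comp_whiskerRight]
  rw [← μ_natural_left_assoc, left_unitality F X, ← comp_whiskerRight_assoc (inv (ε F)) (ε F),
    IsIso.inv_hom_id, id_whiskerRight, Category.id_comp]

theorem map_bijective [IsGroupoid C]
    (hC : ∀ X : C, (tensorRight X).IsEquivalence) (hD : ∀ X : D, (tensorRight X).IsEquivalence)
    (h1 : Function.Bijective (fun φ : 𝟙_ C ⟶ 𝟙_ C => F.map φ)) (X : C) :
    Function.Bijective (fun f : X ⟶ X => F.map f) := by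
  haveI := hC X
  haveI := hD (F.obj X)
  have hF : Function.Bijective (fun φ : 𝟙_ C ⟶ 𝟙_ C => ε F ≫ F.map φ ≫ inv (ε F)) := by
    constructor
    · intro φ ψ h
      simp only [cancel_epi, cancel_mono] at h
      exact h1.1 h
    · intro ψ
      obtain ⟨φ, hφ⟩ := h1.2 (inv (ε F) ≫ ψ ≫ ε F)
      exact ⟨φ, by simp only at hφ ⊢; rw [hφ]; simp⟩
  constructor
  · intro f g h
    obtain ⟨φ, rfl⟩ := (act_bijective X).2 f
    obtain ⟨ψ, rfl⟩ := (act_bijective X).2 g
    simp only [map_act] at h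
    exact congrArg (act · X) (hF.1 ((act_bijective (F.obj X)).1 h))
  · intro f
    obtain ⟨ψ, rfl⟩ := (act_bijective (F.obj X)).2 f
    obtain ⟨φ, rfl⟩ := hF.2 ψ
    exact ⟨act φ X, map_act F φ X⟩

end Functor

end GrothLib.PicAct
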