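import Mathlib.CategoryTheory.Monoidal.Braided.Basic
import Mathlib.CategoryTheory.Monoidal.NaturalTransformation
import Mathlib.CategoryTheory.Groupoid

/-!
# The free Picard category on a symmetric monoidal category ("Picardification")

Objects are formal expressions in objects of `A`, a unit, tensor products and inverses; morphisms
are formal composites of structure morphisms, evaluations `inv X ⊗ X ⟶ 1`, morphisms of `A` and
comparison maps, modulo the axioms of a symmetric monoidal groupoid and of a symmetric lax monoidal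
functor from `A`.
-/

set_option autoImplicit false

open CategoryTheory MonoidalCategory

namespace GrothLib.PicFree

universe u v u' v'

/-- Formal objects. -/
inductive Ob (A : Type u) : Type u
  | of (a : A)
  | unit
  | tensor (X Y : Ob A)
  | inv (X : Ob A)

variable (A : Type u) [Category.{v} A] [MonoidalCategory A] [BraidedCategory A]

/-- Formal morphisms. -/
inductive Mor : Ob A → Ob A → Type max u v
  | id (X : Ob A) : Mor X X
  | comp {X Y Z : Ob A} (f : Mor X Y) (g : Mor Y Z) : Mor X Z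
  | symm {X Y : Ob A} (f : Mor X Y) : Mor Y X
  | tensor {X Y X' Y' : Ob A} (f : Mor X Y) (g : Mor X' Y') : Mor (.tensor X X') (.tensor Y Y')
  | assoc (X Y Z : Ob A) : Mor (.tensor (.tensor X Y) Z) (.tensor X (.tensor Y Z))
  | lunit (X : Ob A) : Mor (.tensor .unit X) X
  | runit (X : Ob A) : Mor (.tensor X .unit) X
  | braid (X Y : Ob A) : Mor (.tensor X Y) (.tensor Y X)
  | ev (X : Ob A) : Mor (.tensor (.inv X) X) .unit
  | of {a b : A} (f : a ⟶ b) : Mor (.of a) (.of b)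
  | mu (a b : A) : Mor (.tensor (.of a) (.of b)) (.of (a ⊗ b))
  | eps : Mor .unit (.of (𝟙_ A))

/-- Generating relations. -/
inductive Rel : ∀ {X Y : Ob A}, Mor A X Y → Mor A X Y → Prop
  | comp_left {X Y Z : Ob A} {f f' : Mor A X Y} (g : Mor A Y Z) :
      Rel f f' → Rel (f.comp g) (f'.comp g)
  | comp_right {X Y Z : Ob A} (f : Mor A X Y) {g g' : Mor A Y Z} :
      Rel g g' → Rel (f.comp g) (f.comp g')
  | symm_congr {X Y : Ob A} {f f' : Mor A X Y} : Rel f f' → Rel f.symm f'.symm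
  | tensor_left {X Y X' Y' : Ob A} {f f' : Mor A X Y} (g : Mor A X' Y') :
      Rel f f' → Rel (f.tensor g) (f'.tensor g)
  | tensor_right {X Y X' Y' : Ob A} (f : Mor A X Y) {g g' : Mor A X' Y'} :
      Rel g g' → Rel (f.tensor g) (f.tensor g')
  | id_comp {X Y : Ob A} (f : Mor A X Y) : Rel ((Mor.id X).comp f) f
  | comp_id {X Y : Ob A} (f : Mor A X Y) : Rel (f.comp (Mor.id Y)) f
  | comp_assoc {W X Y Z : Ob A} (f : Mor A W X) (g : Mor A X Y) (h : Mor A Y Z) :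
      Rel ((f.comp g).comp h) (f.comp (g.comp h))
  | comp_symm {X Y : Ob A} (f : Mor A X Y) : Rel (f.comp f.symm) (Mor.id X)
  | symm_comp {X Y : Ob A} (f : Mor A X Y) : Rel (f.symm.comp f) (Mor.id Y)
  | tensor_id (X Y : Ob A) : Rel ((Mor.id X).tensor (Mor.id Y)) (Mor.id (.tensor X Y))
  | tensor_comp {X Y Z X' Y' Z' : Ob A} (f : Mor A X Y) (g : Mor A X' Y') (f' : Mor A Y Z)
      (g' : Mor A Y' Z') :
      Rel ((f.tensor g).comp (f'.tensor g')) ((f.comp f').tensor (g.comp g'))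
  | assoc_nat {X Y X' Y' X'' Y'' : Ob A} (f : Mor A X Y) (g : Mor A X' Y') (h : Mor A X'' Y'') :
      Rel (((f.tensor g).tensor h).comp (Mor.assoc Y Y' Y''))
        ((Mor.assoc X X' X'').comp (f.tensor (g.tensor h)))
  | lunit_nat {X Y : Ob A} (f : Mor A X Y) :
      Rel (((Mor.id .unit).tensor f).comp (Mor.lunit Y)) ((Mor.lunit X).comp f)
  | runit_nat {X Y : Ob A} (f : Mor A X Y) :
      Rel ((f.tensor (Mor.id .unit)).comp (Mor.runit Y)) ((Mor.runit X).comp f)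
  | pentagon (W X Y Z : Ob A) :
      Rel (((Mor.assoc W X Y).tensor (Mor.id Z)).comp
          ((Mor.assoc W (.tensor X Y) Z).comp ((Mor.id W).tensor (Mor.assoc X Y Z))))
        ((Mor.assoc (.tensor W X) Y Z).comp (Mor.assoc W X (.tensor Y Z)))
  | triangle (X Y : Ob A) :
      Rel ((Mor.assoc X .unit Y).comp ((Mor.id X).tensor (Mor.lunit Y)))
        ((Mor.runit X).tensor (Mor.id Y))
  | braid_nat {X Y X' Y' : Ob A} (f : Mor A X Y) (g : Mor A X' Y') :
      Rel ((f.tensor g).comp (Mor.braid Y Y')) ((Mor.braid X X').comp (g.tensor f))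
  | hexagon₁ (X Y Z : Ob A) :
      Rel ((Mor.assoc X Y Z).comp ((Mor.braid X (.tensor Y Z)).comp (Mor.assoc Y Z X)))
        (((Mor.braid X Y).tensor (Mor.id Z)).comp
          ((Mor.assoc Y X Z).comp ((Mor.id Y).tensor (Mor.braid X Z))))
  | hexagon₂ (X Y Z : Ob A) :
      Rel ((Mor.assoc X Y Z).symm.comp ((Mor.braid (.tensor X Y) Z).comp (Mor.assoc Z X Y).symm))
        (((Mor.id X).tensor (Mor.braid Y Z)).comp
          ((Mor.assoc X Z Y).symm.comp ((Mor.braid X Z).tensor (Mor.id Y))))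
  | braid_symm (X Y : Ob A) : Rel ((Mor.braid X Y).comp (Mor.braid Y X)) (Mor.id (.tensor X Y))
  | of_id (a : A) : Rel (Mor.of (𝟙 a)) (Mor.id (.of a))
  | of_comp {a b c : A} (f : a ⟶ b) (g : b ⟶ c) : Rel (Mor.of (f ≫ g)) ((Mor.of f).comp (Mor.of g))
  | mu_nat {a b a' b' : A} (f : a ⟶ b) (g : a' ⟶ b') :
      Rel (((Mor.of f).tensor (Mor.of g)).comp (Mor.mu b b'))
        ((Mor.mu a a').comp (Mor.of (f ⊗ₘ g)))
  | mu_assoc (a b c : A) :
      Rel (((Mor.mu a b).tensor (Mor.id (.of c))).comp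
          ((Mor.mu (a ⊗ b) c).comp (Mor.of (α_ a b c).hom)))
        ((Mor.assoc (.of a) (.of b) (.of c)).comp
          (((Mor.id (.of a)).tensor (Mor.mu b c)).comp (Mor.mu a (b ⊗ c))))
  | mu_lunit (a : A) :
      Rel (Mor.lunit (.of a))
        ((Mor.eps.tensor (Mor.id (.of a))).comp ((Mor.mu (𝟙_ A) a).comp (Mor.of (λ_ a).hom)))
  | mu_runit (a : A) :
      Rel (Mor.runit (.of a))
        (((Mor.id (.of a)).tensor Mor.eps).comp ((Mor.mu a (𝟙_ A)).comp (Mor.of (ρ_ a).hom)))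
  | mu_braid (a b : A) :
      Rel ((Mor.mu a b).comp (Mor.of (β_ a b).hom))
        ((Mor.braid (.of a) (.of b)).comp (Mor.mu b a))

instance category : Category.{max u v} (Ob A) where
  Hom X Y := Quot (@Rel A _ _ _ X Y)
  id X := Quot.mk _ (Mor.id X)
  comp f g := Quot.map₂ Mor.comp (fun f _ _ h => Rel.comp_right f h)
    (fun _ _ g h => Rel.comp_left g h) f g
  id_comp := by rintro X Y ⟨f⟩; exact Quot.sound (Rel.id_comp f)
  comp_id := by rintro X Y ⟨f⟩; exact Quot.sound (Rel.comp_id f)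
  assoc := by rintro W X Y Z ⟨f⟩ ⟨g⟩ ⟨h⟩; exact Quot.sound (Rel.comp_assoc f g h)

variable {A}

/-- class of a formal morphism -/
abbrev cl {X Y : Ob A} (f : Mor A X Y) : X ⟶ Y := Quot.mk _ f

/-- formal inversion -/
def invHom {X Y : Ob A} (f : X ⟶ Y) : Y ⟶ X := Quot.map Mor.symm (fun _ _ h => Rel.symm_congr h) f

theorem hom_invHom {X Y : Ob A} (f : X ⟶ Y) : f ≫ invHom f = 𝟙 X := by
  rcases f with ⟨f⟩; exact Quot.sound (Rel.comp_symm f)

theorem invHom_hom {X Y : Ob A} (f : X ⟶ Y) : invHom f ≫ f = 𝟙 Y := by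
  rcases f with ⟨f⟩; exact Quot.sound (Rel.symm_comp f)

/-- every morphism is an isomorphism -/
def isoOf {X Y : Ob A} (f : X ⟶ Y) : X ≅ Y := ⟨f, invHom f, hom_invHom f, invHom_hom f⟩

instance isGroupoid : IsGroupoid (Ob A) := ⟨fun f => (isoOf f).isIso_hom⟩

/-- tensor of classes -/
def tensorMor {X Y X' Y' : Ob A} (f : X ⟶ Y) (g : X' ⟶ Y') : Ob.tensor X X' ⟶ Ob.tensor Y Y' :=
  Quot.map₂ Mor.tensor (fun f _ _ h => Rel.tensor_right f h)
    (fun _ _ g h => Rel.tensor_left g h) f g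

instance monoidalStruct : MonoidalCategoryStruct (Ob A) where
  tensorObj := Ob.tensor
  whiskerLeft X _ _ f := tensorMor (𝟙 X) f
  whiskerRight f Y := tensorMor f (𝟙 Y)
  tensorHom f g := tensorMor f g
  tensorUnit := Ob.unit
  associator X Y Z := isoOf (cl (Mor.assoc X Y Z))
  leftUnitor X := isoOf (cl (Mor.lunit X))
  rightUnitor X := isoOf (cl (Mor.runit X))

instance monoidal : MonoidalCategory (Ob A) :=
  MonoidalCategory.ofTensorHom
    (id_tensorHom_id := fun X Y => Quot.sound (Rel.tensor_id X Y))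
    (id_tensorHom := fun _ _ _ _ => rfl)
    (tensorHom_id := fun _ _ => rfl)
    (tensorHom_comp_tensorHom := by
      rintro _ _ _ _ _ _ ⟨f⟩ ⟨g⟩ ⟨f'⟩ ⟨g'⟩; exact Quot.sound (Rel.tensor_comp f g f' g'))
    (associator_naturality := by
      rintro _ _ _ _ _ _ ⟨f⟩ ⟨g⟩ ⟨h⟩; exact Quot.sound (Rel.assoc_nat f g h))
    (leftUnitor_naturality := by rintro _ _ ⟨f⟩; exact Quot.sound (Rel.lunit_nat f))
    (rightUnitor_naturality := by rintro _ _ ⟨f⟩; exact Quot.sound (Rel.runit_nat f))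
    (pentagon := fun W X Y Z => Quot.sound (Rel.pentagon W X Y Z))
    (triangle := fun X Y => Quot.sound (Rel.triangle X Y))

instance symmetric : SymmetricCategory (Ob A) where
  braiding X Y := isoOf (cl (Mor.braid X Y))
  braiding_naturality_right X _ _ f := by
    rcases f with ⟨f⟩; exact Quot.sound (Rel.braid_nat (Mor.id X) f)
  braiding_naturality_left f Z := by
    rcases f with ⟨f⟩; exact Quot.sound (Rel.braid_nat f (Mor.id Z))
  hexagon_forward X Y Z := Quot.sound (Rel.hexagon₁ X Y Z)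
  hexagon_reverse X Y Z := Quot.sound (Rel.hexagon₂ X Y Z)
  symmetry X Y := Quot.sound (Rel.braid_symm X Y)

variable (A) in
/-- the canonical functor -/
def incl : A ⥤ Ob A where
  obj := Ob.of
  map f := cl (Mor.of f)
  map_id a := Quot.sound (Rel.of_id a)
  map_comp f g := Quot.sound (Rel.of_comp f g)

instance inclLaxBraided : (incl A).LaxBraided where
  toLaxMonoidal := Functor.LaxMonoidal.ofTensorHom
    (ε := cl Mor.eps)
    (μ := fun a b => cl (Mor.mu a b))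
    (μ_natural := fun f g => Quot.sound (Rel.mu_nat f g))
    (associativity := fun a b c => Quot.sound (Rel.mu_assoc a b c))
    (left_unitality := fun a => Quot.sound (Rel.mu_lunit a))
    (right_unitality := fun a => Quot.sound (Rel.mu_runit a))
  braided a b := Quot.sound (Rel.mu_braid a b)

/-- an object with an inverse gives an autoequivalence -/
theorem tensor_isEquivalence_of_inverse {C : Type u} [Category.{v'} C] [MonoidalCategory C]
    [BraidedCategory C] (X Y : C) (e : Y ⊗ X ≅ 𝟙_ C) :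
    (tensorLeft X).IsEquivalence ∧ (tensorRight X).IsEquivalence := by
  let e' : X ⊗ Y ≅ 𝟙_ C := β_ X Y ≪≫ e
  let E : C ≌ C := CategoryTheory.Equivalence.mk (tensorLeft X) (tensorLeft Y)
    ((NatIso.ofComponents (fun Z => whiskerRightIso e Z ≪≫ λ_ Z) (fun f => by
      dsimp [whiskerRightIso]; rw [whisker_exchange_assoc, leftUnitor_naturality, Category.assoc])).symm ≪≫ tensorLeftTensor Y X)
    ((tensorLeftTensor X Y).symm ≪≫ NatIso.ofComponents (fun Z => whiskerRightIso e' Z ≪≫ λ_ Z) (fun f => by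
      dsimp [whiskerRightIso]; rw [whisker_exchange_assoc, leftUnitor_naturality, Category.assoc]))
  haveI : (tensorLeft X).IsEquivalence := E.isEquivalence_functor
  exact ⟨inferInstance, Functor.isEquivalence_of_iso (BraidedCategory.tensorLeftIsoTensorRight X)⟩

theorem tensor_isEquivalence (X : Ob A) :
    (tensorLeft X).IsEquivalence ∧ (tensorRight X).IsEquivalence :=
  tensor_isEquivalence_of_inverse X (Ob.inv X) (isoOf (cl (Mor.ev X)))

section Lift

variable {P : Type u'} [Category.{v'} P] [MonoidalCategory P] [SymmetricCategory P] [IsGroupoid P]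
  (hP : ∀ X : P, (tensorLeft X).IsEquivalence ∧ (tensorRight X).IsEquivalence)
  (Φ : A ⥤ P) [Φ.LaxBraided]

open Functor.LaxMonoidal

/-- a chosen left inverse -/
noncomputable def invObj (Y : P) : P :=
  haveI := (hP Y).2
  (tensorRight Y).objPreimage (𝟙_ P)

/-- its evaluation -/
noncomputable def invEv (Y : P) : invObj hP Y ⊗ Y ≅ 𝟙_ P :=
  haveI := (hP Y).2
  (tensorRight Y).objObjPreimageIso (𝟙_ P)

/-- evaluation of formal objects -/
noncomputable def evalOb : Ob A → P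
  | .of a => Φ.obj a
  | .unit => 𝟙_ P
  | .tensor X Y => evalOb X ⊗ evalOb Y
  | .inv X => invObj hP (evalOb X)

/-- evaluation of formal morphisms -/
noncomputable def evalMor : ∀ {X Y : Ob A}, Mor A X Y → (evalOb hP Φ X ⟶ evalOb hP Φ Y)
  | _, _, .id _ => 𝟙 _
  | _, _, .comp f g => evalMor f ≫ evalMor g
  | _, _, .symm f => CategoryTheory.inv (evalMor f)
  | _, _, .tensor f g => evalMor f ⊗ₘ evalMor g
  | _, _, .assoc _ _ _ => (α_ _ _ _).hom
  | _, _, .lunit _ => (λ_ _).hom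
  | _, _, .runit _ => (ρ_ _).hom
  | _, _, .braid _ _ => (β_ _ _).hom
  | _, _, .ev X => (invEv hP (evalOb hP Φ X)).hom
  | _, _, .of f => Φ.map f
  | _, _, .mu a b => μ Φ a b
  | _, _, .eps => ε Φ

theorem evalMor_rel {X Y : Ob A} {f g : Mor A X Y} (h : Rel A f g) :
    evalMor hP Φ f = evalMor hP Φ g := by
  induction h with
  | comp_left g _ ih => simp [evalMor, ih]
  | comp_right f _ ih => simp [evalMor, ih]
  | symm_congr _ ih => simp [evalMor, ih]
  | tensor_left g _ ih => simp [evalMor, ih]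
  | tensor_right f _ ih => simp [evalMor, ih]
  | id_comp f => simp [evalMor]
  | comp_id f => simp [evalMor]
  | comp_assoc f g h => simp [evalMor]
  | comp_symm f => simp [evalMor]
  | symm_comp f => simp [evalMor]
  | tensor_id X Y => simp [evalMor, evalOb]
  | tensor_comp f g f' g' => simp [evalMor, evalOb]
  | assoc_nat f g h => exact associator_naturality _ _ _
  | lunit_nat f =>
    change ((𝟙 (𝟙_ P)) ⊗ₘ evalMor hP Φ f) ≫ (λ_ _).hom = (λ_ _).hom ≫ evalMor hP Φ f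
    rw [id_tensorHom, leftUnitor_naturality]
  | runit_nat f =>
    change (evalMor hP Φ f ⊗ₘ (𝟙 (𝟙_ P))) ≫ (ρ_ _).hom = (ρ_ _).hom ≫ evalMor hP Φ f
    rw [tensorHom_id, rightUnitor_naturality]
  | pentagon W X Y Z =>
    simp only [evalMor, evalOb, id_tensorHom, tensorHom_id]
    exact MonoidalCategory.pentagon _ _ _ _
  | triangle X Y =>
    simp only [evalMor, evalOb, id_tensorHom, tensorHom_id]
    exact MonoidalCategory.triangle _ _
  | braid_nat f g => exact BraidedCategory.braiding_naturality _ _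
  | hexagon₁ X Y Z =>
    simp only [evalMor, evalOb, id_tensorHom, tensorHom_id]
    exact BraidedCategory.hexagon_forward _ _ _
  | hexagon₂ X Y Z =>
    simp only [evalMor, evalOb, id_tensorHom, tensorHom_id, IsIso.Iso.inv_hom]
    exact BraidedCategory.hexagon_reverse _ _ _
  | braid_symm X Y => exact SymmetricCategory.symmetry _ _
  | of_id a => exact Φ.map_id a
  | of_comp f g => exact Φ.map_comp f g
  | mu_nat f g => exact μ_natural Φ f g
  | mu_assoc a b c =>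
    simp only [evalMor, evalOb, id_tensorHom, tensorHom_id]
    exact Functor.LaxMonoidal.associativity Φ a b c
  | mu_lunit a =>
    simp only [evalMor, evalOb, tensorHom_id]
    exact Functor.LaxMonoidal.left_unitality Φ a
  | mu_runit a =>
    simp only [evalMor, evalOb, id_tensorHom]
    exact Functor.LaxMonoidal.right_unitality Φ a
  | mu_braid a b => exact Functor.LaxBraided.braided a b

/-- the extension of `Φ` -/
noncomputable def lift : Ob A ⥤ P where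
  obj := evalOb hP Φ
  map f := Quot.lift (evalMor hP Φ) (fun _ _ h => evalMor_rel hP Φ h) f
  map_id _ := rfl
  map_comp := by rintro _ _ _ ⟨f⟩ ⟨g⟩; rfl

noncomputable instance liftLaxBraided : (lift hP Φ).LaxBraided where
  toLaxMonoidal := Functor.LaxMonoidal.ofTensorHom
    (ε := 𝟙 _)
    (μ := fun _ _ => 𝟙 _)
    (μ_natural := by
      rintro _ _ _ _ ⟨f⟩ ⟨g⟩
      exact (Category.comp_id _).trans (Category.id_comp _).symm)
    (associativity := fun X Y Z => by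
      change (𝟙 (evalOb hP Φ X ⊗ evalOb hP Φ Y) ⊗ₘ 𝟙 _) ≫ 𝟙 _ ≫ (α_ _ _ _).hom =
        (α_ _ _ _).hom ≫ (𝟙 (evalOb hP Φ X) ⊗ₘ 𝟙 (evalOb hP Φ Y ⊗ evalOb hP Φ Z)) ≫ 𝟙 _
      rw [id_tensorHom_id, id_tensorHom_id]
      exact ((Category.id_comp _).trans (Category.id_comp _)).trans
        ((congrArg _ (Category.id_comp _)).trans (Category.comp_id _)).symm)
    (left_unitality := fun X => by
      change (λ_ (evalOb hP Φ X)).hom = (𝟙 (𝟙_ P) ⊗ₘ 𝟙 (evalOb hP Φ X)) ≫ 𝟙 _ ≫ (λ_ _).hom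
      rw [id_tensorHom_id]
      exact ((Category.id_comp _).trans (Category.id_comp _)).symm)
    (right_unitality := fun X => by
      change (ρ_ (evalOb hP Φ X)).hom = (𝟙 (evalOb hP Φ X) ⊗ₘ 𝟙 (𝟙_ P)) ≫ 𝟙 _ ≫ (ρ_ _).hom
      rw [id_tensorHom_id]
      exact ((Category.id_comp _).trans (Category.id_comp _)).symm)
  braided X Y := (Category.id_comp _).trans (Category.comp_id _).symm

include hP in
theorem exists_lift : ∃ (Ψ : Ob A ⥤ P) (_ : Ψ.LaxBraided) (η : incl A ⋙ Ψ ≅ Φ),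
    NatTrans.IsMonoidal η.hom := by
  refine ⟨lift hP Φ, inferInstance, NatIso.ofComponents (fun a => Iso.refl (Φ.obj a))
    (fun f => (Category.comp_id _).trans (Category.id_comp _).symm), ?_, fun X Y => ?_⟩
  · change (𝟙 (𝟙_ P) ≫ ε Φ) ≫ 𝟙 _ = ε Φ
    simp
  · change (𝟙 (Φ.obj X ⊗ Φ.obj Y) ≫ μ Φ X Y) ≫ 𝟙 _ = (𝟙 (Φ.obj X) ⊗ₘ 𝟙 (Φ.obj Y)) ≫ μ Φ X Y
    simp

end Lift

section NatTrans

variable {P : Type u'} [Category.{v'} P] [MonoidalCategory P] [SymmetricCategory P] [IsGroupoid P]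
  (hP : ∀ X : P, (tensorLeft X).IsEquivalence ∧ (tensorRight X).IsEquivalence)
  (Ψ Ψ' : Ob A ⥤ P) [Ψ.LaxBraided] [Ψ'.LaxBraided] (τ : incl A ⋙ Ψ ⟶ incl A ⋙ Ψ')

open Functor.LaxMonoidal

/-- components of the extended transformation -/
noncomputable def extApp : ∀ X : Ob A, Ψ.obj X ⟶ Ψ'.obj X
  | .of a => τ.app a
  | .unit => CategoryTheory.inv (ε Ψ) ≫ ε Ψ'
  | .tensor X Y => CategoryTheory.inv (μ Ψ X Y) ≫ (extApp X ⊗ₘ extApp Y) ≫ μ Ψ' X Y
  | .inv X =>
    haveI := (hP (Ψ.obj X)).2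
    (tensorRight (Ψ.obj X)).preimage
      (μ Ψ (Ob.inv X) X ≫ Ψ.map (cl (Mor.ev X)) ≫ (CategoryTheory.inv (ε Ψ) ≫ ε Ψ') ≫
        CategoryTheory.inv (Ψ'.map (cl (Mor.ev X))) ≫ CategoryTheory.inv (μ Ψ' (Ob.inv X) X) ≫
          Ψ'.obj (Ob.inv X) ◁ CategoryTheory.inv (extApp X))

theorem ext_unit : ε Ψ ≫ extApp hP Ψ Ψ' τ (𝟙_ (Ob A)) = ε Ψ' :=
  IsIso.hom_inv_id_assoc (ε Ψ) (ε Ψ')

theorem ext_tensor (X Y : Ob A) : μ Ψ X Y ≫ extApp hP Ψ Ψ' τ (X ⊗ Y) =
    (extApp hP Ψ Ψ' τ X ⊗ₘ extApp hP Ψ Ψ' τ Y) ≫ μ Ψ' X Y :=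
  IsIso.hom_inv_id_assoc (μ Ψ X Y) _

theorem ext_ev (X : Ob A) :
    Ψ.map (cl (Mor.ev X)) ≫ extApp hP Ψ Ψ' τ (𝟙_ (Ob A)) =
      extApp hP Ψ Ψ' τ (Ob.inv X ⊗ X) ≫ Ψ'.map (cl (Mor.ev X)) := by
  haveI := (hP (Ψ.obj X)).2
  rw [← cancel_epi (μ Ψ (Ob.inv X) X), reassoc_of% ext_tensor hP Ψ Ψ' τ (Ob.inv X) X, tensorHom_def]
  have h : extApp hP Ψ Ψ' τ (Ob.inv X) ▷ Ψ.obj X =
      μ Ψ (Ob.inv X) X ≫ Ψ.map (cl (Mor.ev X)) ≫ (CategoryTheory.inv (ε Ψ) ≫ ε Ψ') ≫
        CategoryTheory.inv (Ψ'.map (cl (Mor.ev X))) ≫ CategoryTheory.inv (μ Ψ' (Ob.inv X) X) ≫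
          Ψ'.obj (Ob.inv X) ◁ CategoryTheory.inv (extApp hP Ψ Ψ' τ X) :=
    (tensorRight (Ψ.obj X)).map_preimage _
  rw [h]
  simp only [Category.assoc]
  rw [← MonoidalCategory.whiskerLeft_comp_assoc, IsIso.inv_hom_id, MonoidalCategory.whiskerLeft_id,
    Category.id_comp, IsIso.inv_hom_id_assoc, IsIso.inv_hom_id]
  simp only [Category.comp_id]
  rfl

theorem ext_naturality [hτ : NatTrans.IsMonoidal τ] {X Y : Ob A} (f : Mor A X Y) :
    Ψ.map (cl f) ≫ extApp hP Ψ Ψ' τ Y = extApp hP Ψ Ψ' τ X ≫ Ψ'.map (cl f) := by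
  induction f with
  | id X =>
    change Ψ.map (𝟙 X) ≫ _ = _ ≫ Ψ'.map (𝟙 X)
    simp
  | comp f g ih ih' =>
    change Ψ.map (cl f ≫ cl g) ≫ _ = _ ≫ Ψ'.map (cl f ≫ cl g)
    rw [Functor.map_comp, Functor.map_comp, Category.assoc, ih', reassoc_of% ih]
  | @symm X Y f ih =>
    have h1 : Ψ.map (cl f.symm) = CategoryTheory.inv (Ψ.map (cl f)) :=
      IsIso.eq_inv_of_hom_inv_id (by rw [← Functor.map_comp, ← Ψ.map_id]; exact congrArg _ (hom_invHom (cl f)))
    have h2 : Ψ'.map (cl f.symm) = CategoryTheory.inv (Ψ'.map (cl f)) :=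
      IsIso.eq_inv_of_hom_inv_id (by rw [← Functor.map_comp, ← Ψ'.map_id]; exact congrArg _ (hom_invHom (cl f)))
    rw [h1, h2, IsIso.inv_comp_eq, ← Category.assoc, IsIso.eq_comp_inv, ih]
  | @tensor X Y X' Y' f g ih ih' =>
    change Ψ.map (cl f ⊗ₘ cl g) ≫ extApp hP Ψ Ψ' τ (Y ⊗ Y') =
      extApp hP Ψ Ψ' τ (X ⊗ X') ≫ Ψ'.map (cl f ⊗ₘ cl g)
    rw [← cancel_epi (μ Ψ X X'), ← μ_natural_assoc, ext_tensor, reassoc_of% ext_tensor hP Ψ Ψ' τ,
      tensorHom_comp_tensorHom_assoc, ih, ih', ← tensorHom_comp_tensorHom_assoc, μ_natural]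
  | assoc X Y Z =>
    change Ψ.map (α_ X Y Z).hom ≫ extApp hP Ψ Ψ' τ (X ⊗ (Y ⊗ Z)) =
      extApp hP Ψ Ψ' τ ((X ⊗ Y) ⊗ Z) ≫ Ψ'.map (α_ X Y Z).hom
    rw [← cancel_epi (μ Ψ X Y ▷ Ψ.obj Z ≫ μ Ψ (X ⊗ Y) Z)]
    simp only [Category.assoc]
    rw [Functor.LaxMonoidal.associativity_assoc, ext_tensor,
      reassoc_of% ext_tensor hP Ψ Ψ' τ (X ⊗ Y) Z,
      ← id_tensorHom, tensorHom_comp_tensorHom_assoc, Category.id_comp, ext_tensor,
      ← tensorHom_id, tensorHom_comp_tensorHom_assoc, Category.id_comp, ext_tensor]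
    nth_rw 1 [← Category.comp_id (extApp hP Ψ Ψ' τ X)]
    rw [← tensorHom_comp_tensorHom_assoc, ← associator_naturality_assoc]
    nth_rw 2 [← Category.comp_id (extApp hP Ψ Ψ' τ Z)]
    rw [← tensorHom_comp_tensorHom_assoc, id_tensorHom, tensorHom_id,
      Functor.LaxMonoidal.associativity]
  | lunit X =>
    change Ψ.map (λ_ X).hom ≫ extApp hP Ψ Ψ' τ X =
      extApp hP Ψ Ψ' τ (𝟙_ (Ob A) ⊗ X) ≫ Ψ'.map (λ_ X).hom
    rw [← cancel_epi (ε Ψ ▷ Ψ.obj X ≫ μ Ψ (𝟙_ (Ob A)) X)]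
    simp only [Category.assoc]
    rw [← Functor.LaxMonoidal.left_unitality_assoc, reassoc_of% ext_tensor hP Ψ Ψ' τ,
      ← tensorHom_id, tensorHom_comp_tensorHom_assoc, ext_unit, Category.id_comp, tensorHom_def',
      Category.assoc, ← Functor.LaxMonoidal.left_unitality, leftUnitor_naturality]
  | runit X =>
    change Ψ.map (ρ_ X).hom ≫ extApp hP Ψ Ψ' τ X =
      extApp hP Ψ Ψ' τ (X ⊗ 𝟙_ (Ob A)) ≫ Ψ'.map (ρ_ X).hom
    rw [← cancel_epi (Ψ.obj X ◁ ε Ψ ≫ μ Ψ X (𝟙_ (Ob A)))]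
    simp only [Category.assoc]
    rw [← Functor.LaxMonoidal.right_unitality_assoc, reassoc_of% ext_tensor hP Ψ Ψ' τ,
      ← id_tensorHom, tensorHom_comp_tensorHom_assoc, ext_unit, Category.id_comp, tensorHom_def,
      Category.assoc, ← Functor.LaxMonoidal.right_unitality, rightUnitor_naturality]
  | braid X Y =>
    change Ψ.map (β_ X Y).hom ≫ extApp hP Ψ Ψ' τ (Y ⊗ X) =
      extApp hP Ψ Ψ' τ (X ⊗ Y) ≫ Ψ'.map (β_ X Y).hom
    rw [← cancel_epi (μ Ψ X Y), Functor.LaxBraided.braided_assoc, ext_tensor,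
      reassoc_of% ext_tensor hP Ψ Ψ' τ, Functor.LaxBraided.braided,
      BraidedCategory.braiding_naturality_assoc]
  | ev X => exact ext_ev hP Ψ Ψ' τ X
  | of f => exact τ.naturality f
  | mu a b =>
    have h := hτ.tensor a b
    apply (cancel_epi (μ Ψ ((incl A).obj a) ((incl A).obj b))).1
    change μ Ψ ((incl A).obj a) ((incl A).obj b) ≫ Ψ.map (μ (incl A) a b) ≫ τ.app (a ⊗ b) =
      μ Ψ ((incl A).obj a) ((incl A).obj b) ≫
        extApp hP Ψ Ψ' τ ((incl A).obj a ⊗ (incl A).obj b) ≫ Ψ'.map (μ (incl A) a b)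
    rw [reassoc_of% ext_tensor hP Ψ Ψ' τ]
    exact (Category.assoc _ _ _).symm.trans h
  | eps =>
    have h := hτ.unit
    apply (cancel_epi (ε Ψ)).1
    change ε Ψ ≫ Ψ.map (ε (incl A)) ≫ τ.app (𝟙_ A) =
      ε Ψ ≫ extApp hP Ψ Ψ' τ (𝟙_ (Ob A)) ≫ Ψ'.map (ε (incl A))
    rw [reassoc_of% ext_unit hP Ψ Ψ' τ]
    exact (Category.assoc _ _ _).symm.trans h

include hP in
theorem existsUnique_ext [NatTrans.IsMonoidal τ] :
    ∃! θ : Ψ ⟶ Ψ', NatTrans.IsMonoidal θ ∧ Functor.whiskerLeft (incl A) θ = τ := by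
  let θ : Ψ ⟶ Ψ' :=
    { app := extApp hP Ψ Ψ' τ
      naturality := by rintro X Y ⟨f⟩; exact ext_naturality hP Ψ Ψ' τ f }
  refine ⟨θ, ⟨⟨ext_unit hP Ψ Ψ' τ, ext_tensor hP Ψ Ψ' τ⟩, rfl⟩, ?_⟩
  rintro θ' ⟨hθ, hw⟩
  refine NatTrans.ext (funext fun X => ?_)
  change θ'.app X = extApp hP Ψ Ψ' τ X
  induction X with
  | of a => exact congrArg (fun t => NatTrans.app t a) hw
  | unit =>
    rw [← cancel_epi (ε Ψ)]
    exact hθ.unit.trans (ext_unit hP Ψ Ψ' τ).symm
  | tensor X Y ih ih' =>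
    rw [← cancel_epi (μ Ψ X Y)]
    refine (hθ.tensor X Y).trans ?_
    rw [ih, ih']
    exact (ext_tensor hP Ψ Ψ' τ X Y).symm
  | inv X ih =>
    haveI := (hP (Ψ.obj X)).2
    apply (tensorRight (Ψ.obj X)).map_injective
    change θ'.app (Ob.inv X) ▷ Ψ.obj X = extApp hP Ψ Ψ' τ (Ob.inv X) ▷ Ψ.obj X
    have h1 := θ'.naturality (cl (Mor.ev X))
    have hu : θ'.app (𝟙_ (Ob A)) = extApp hP Ψ Ψ' τ (𝟙_ (Ob A)) := by
      rw [← cancel_epi (ε Ψ)]
      exact hθ.unit.trans (ext_unit hP Ψ Ψ' τ).symm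
    change Ψ.map (cl (Mor.ev X)) ≫ θ'.app (𝟙_ (Ob A)) =
      θ'.app (Ob.inv X ⊗ X) ≫ Ψ'.map (cl (Mor.ev X)) at h1
    rw [hu, ext_ev, cancel_mono, ← cancel_epi (μ Ψ (Ob.inv X) X), ext_tensor, hθ.tensor, ih,
      cancel_mono, tensorHom_def, tensorHom_def, cancel_mono] at h1
    exact h1.symm

end NatTrans

end GrothLib.PicFree
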